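import Mathlib
import Cfsg.Agent.Helper45.OddBN.SgDefs
import Cfsg.Agent.Helper43.PsuM.RDefs

/-!
# S2094 block P (the `p`-part of `M(Ω_{2m+1}(q))`, `q` odd): definitions (sub-architect helper14)

Model: `SOJ n F = UG n (RingHom.id F)` (helper5 / helper45), the special orthogonal group of the antidiagonal
form `∑ i, u i * v (Fin.rev i)` on `Fin n → F`; `Om n F := ↥(commutator (SOJ n F))` is `Ω_n(F)`.

Induction step `Ω_k ⟶ Ω_{k+2}` through the stabiliser `P₁ = Q : L` of the isotropic line `⟨e_0⟩` in
`SOJ (k + 2) F`: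
* `mid c = c + 1 : Fin (k + 2)` for `c : Fin k` (the middle positions), `ext w` = extension by zero;
* `qS w = sgMat 0 (ext w)` (helper45's Siegel element of row `0`), `w : Fin k → F`: the unipotent radical
  `QS ≅ (F^k, +)`;
* `LS`: the elements fixing `e_0` and `e_last` (the Levi subgroup `≅ SOJ k F`), `inner g` the middle block;
* `hE lam = diag(lam, 1, …, 1, lam⁻¹)`, `dE d = diag d`;
* `Q0, L0, LD0, T0, U0, UL0`: the corresponding subgroups of `Om (k + 2) F`.
All constructors are total (`1` when the side conditions fail).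
-/

set_option autoImplicit false
set_option linter.unusedSectionVars false

namespace Cfsg.Agent.Helper14.OmP

open Matrix Cfsg.Agent.Helper5.SuBN Cfsg.Agent.Helper45.OddBN

variable {F : Type*} [Field F] {n k : ℕ}

/-- the commutator subgroup `Ω_n(F)` of `SO_n(F)`, as a group -/
abbrev Om (n : ℕ) (F : Type*) [Field F] := ↥(commutator (SOJ n F))

/-- an element of `SO_n` from a matrix satisfying the conditions (`1` otherwise) -/
noncomputable def ofMatJ (M : Matrix (Fin n) (Fin n) F) : SOJ n F :=
  open Classical in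
  if h : IsUJ (RingHom.id F) M then Classical.choose (exists_of_isUJ h) else 1

theorem mat_ofMatJ {M : Matrix (Fin n) (Fin n) F} (h : IsUJ (RingHom.id F) M) :
    mat (ofMatJ M) = M := by
  unfold ofMatJ
  rw [dif_pos h]
  exact Classical.choose_spec (exists_of_isUJ h)

/-- an element of `Ω_n` from an element of `SO_n` lying in the commutator subgroup (`1` otherwise) -/
noncomputable def toOm (g : SOJ n F) : Om n F :=
  open Classical in
  if h : g ∈ commutator (SOJ n F) then ⟨g, h⟩ else 1

theorem coe_toOm {g : SOJ n F} (h : g ∈ commutator (SOJ n F)) :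
    ((toOm g : Om n F) : SOJ n F) = g := by
  unfold toOm
  rw [dif_pos h]

/-- the matrix of an element of `Ω_n` -/
abbrev matO (x : Om n F) : Matrix (Fin n) (Fin n) F := mat (x : SOJ n F)

theorem matO_injective : Function.Injective (matO : Om n F → Matrix (Fin n) (Fin n) F) :=
  fun _ _ h => Subtype.ext (mat_injective h)

/-! ### positions -/

/-- the position `c + 1` of `Fin (k + 2)` -/
def mid (c : Fin k) : Fin (k + 2) := ⟨c.val + 1, by have := c.2; omega⟩

theorem val_mid (c : Fin k) : (mid c).val = c.val + 1 := rfl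

theorem mid_injective : Function.Injective (mid : Fin k → Fin (k + 2)) := by
  intro a b h
  have := congrArg Fin.val h
  rw [val_mid, val_mid] at this
  exact Fin.ext (by omega)

theorem mid_ne_zero (c : Fin k) : mid c ≠ 0 := by
  intro h
  have := congrArg Fin.val h
  rw [val_mid] at this
  simp at this

theorem mid_ne_last (c : Fin k) : mid c ≠ Fin.last (k + 1) := by
  intro h
  have := congrArg Fin.val h
  rw [val_mid, Fin.val_last] at this
  have := c.2
  omega

theorem rev_mid (c : Fin k) : Fin.rev (mid c) = mid (Fin.rev c) := by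
  apply Fin.ext
  rw [Fin.val_rev, val_mid, val_mid, Fin.val_rev]
  have := c.2
  omega

theorem rev_zero_eq_last : Fin.rev (0 : Fin (k + 2)) = Fin.last (k + 1) := by
  apply Fin.ext
  rw [Fin.val_rev, Fin.val_last, Fin.val_zero]
  omega

theorem rev_last_eq_zero : Fin.rev (Fin.last (k + 1)) = (0 : Fin (k + 2)) := by
  rw [← rev_zero_eq_last, Fin.rev_rev]

/-- every position is `0`, a middle position, or the last one -/
theorem eq_zero_or_mid_or_last (a : Fin (k + 2)) :
    a = 0 ∨ (∃ c : Fin k, a = mid c) ∨ a = Fin.last (k + 1) := by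
  by_cases h0 : a.val = 0
  · exact Or.inl (Fin.ext h0)
  · by_cases hl : a.val = k + 1
    · exact Or.inr (Or.inr (Fin.ext hl))
    · refine Or.inr (Or.inl ⟨⟨a.val - 1, by have := a.2; omega⟩, ?_⟩)
      apply Fin.ext
      rw [val_mid]
      show a.val = a.val - 1 + 1
      omega

/-- extension by zero of a vector on the middle positions -/
def ext (w : Fin k → F) : Fin (k + 2) → F := fun a =>
  if h : 0 < a.val ∧ a.val < k + 1 then w ⟨a.val - 1, by omega⟩ else 0

theorem ext_mid (w : Fin k → F) (c : Fin k) : ext w (mid c) = w c := by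
  unfold ext
  rw [dif_pos ⟨by rw [val_mid]; omega, by rw [val_mid]; have := c.2; omega⟩]
  congr 1

theorem ext_zero (w : Fin k → F) : ext w (0 : Fin (k + 2)) = 0 := by
  unfold ext
  rw [dif_neg]
  rintro ⟨h, -⟩
  simp at h

theorem ext_last (w : Fin k → F) : ext w (Fin.last (k + 1)) = 0 := by
  unfold ext
  rw [dif_neg]
  rintro ⟨-, h⟩
  rw [Fin.val_last] at h
  omega

/-- the middle block of a matrix -/
def innerM (M : Matrix (Fin (k + 2)) (Fin (k + 2)) F) : Matrix (Fin k) (Fin k) F :=
  M.submatrix mid mid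

theorem innerM_apply (M : Matrix (Fin (k + 2)) (Fin (k + 2)) F) (a b : Fin k) :
    innerM M a b = M (mid a) (mid b) := rfl

/-- the block matrix `diag(1, M, 1)` -/
def embM (M : Matrix (Fin k) (Fin k) F) : Matrix (Fin (k + 2)) (Fin (k + 2)) F :=
  Matrix.of fun a b =>
    if h : (0 < a.val ∧ a.val < k + 1) ∧ (0 < b.val ∧ b.val < k + 1) then
      M ⟨a.val - 1, by omega⟩ ⟨b.val - 1, by omega⟩
    else if a = b then 1 else 0

theorem embM_mid_mid (M : Matrix (Fin k) (Fin k) F) (a b : Fin k) :
    embM M (mid a) (mid b) = M a b := by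
  unfold embM
  rw [Matrix.of_apply, dif_pos]
  · congr 1
  · have := a.2
    have := b.2
    refine ⟨⟨?_, ?_⟩, ⟨?_, ?_⟩⟩ <;> rw [val_mid] <;> omega

theorem embM_of_not_mid (M : Matrix (Fin k) (Fin k) F) (a b : Fin (k + 2))
    (h : ¬ ((0 < a.val ∧ a.val < k + 1) ∧ (0 < b.val ∧ b.val < k + 1))) :
    embM M a b = if a = b then 1 else 0 := by
  unfold embM
  rw [Matrix.of_apply, dif_neg h]

/-! ### elements -/

/-- helper45's Siegel element of row `j`, as an element of `SO_n` -/
noncomputable def sgE (j : Fin n) (w : Fin n → F) : SOJ n F := ofMatJ (sgMat j w)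

/-- the diagonal element `diag d` -/
noncomputable def dE (d : Fin n → F) : SOJ n F := ofMatJ (Matrix.diagonal d)

/-- the element with matrix the reversal `M (rev a) (rev b)` of the matrix of `g` (conjugation by the
antidiagonal permutation matrix) -/
noncomputable def flipE (g : SOJ n F) : SOJ n F :=
  ofMatJ ((mat g).submatrix Fin.rev Fin.rev)

/-- the element `q(w)` of the unipotent radical of `P₁` -/
noncomputable def qS (w : Fin k → F) : SOJ (k + 2) F := sgE 0 (ext w)

/-- `q(w)` as an element of `Ω_{k+2}` -/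
noncomputable def qO (w : Fin k → F) : Om (k + 2) F := toOm (qS w)

/-- the diagonal of `diag(lam, 1, …, 1, lam⁻¹)` -/
def hD (lam : F) : Fin (k + 2) → F := fun a =>
  if a = 0 then lam else if a = Fin.last (k + 1) then lam⁻¹ else 1

/-- the element `diag(lam, 1, …, 1, lam⁻¹)` -/
noncomputable def hE (lam : F) : SOJ (k + 2) F := dE (hD lam)

/-- the Levi element `diag(1, g, 1)` -/
noncomputable def embE (g : SOJ k F) : SOJ (k + 2) F := ofMatJ (embM (mat g))

/-! ### subgroups of `SOJ (k + 2) F` -/

/-- the unipotent radical of `P₁`: `g 0 0 = 1` and the rows `a ≠ 0` are trivial outside the last column -/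
def QS (k : ℕ) (F : Type*) [Field F] : Subgroup (SOJ (k + 2) F) where
  carrier := {g | mat g 0 0 = 1 ∧ ∀ a b : Fin (k + 2), a ≠ 0 → b ≠ Fin.last (k + 1) →
    mat g a b = if a = b then 1 else 0}
  one_mem' := ⟨by rw [mat_one, Matrix.one_apply_eq], fun a b _ _ => by rw [mat_one, Matrix.one_apply]⟩
  mul_mem' := by
    rintro g h ⟨hg0, hg⟩ ⟨hh0, hh⟩
    have h0l : (0 : Fin (k + 2)) ≠ Fin.last (k + 1) := by
      intro h'
      have := congrArg Fin.val h'
      rw [Fin.val_last, Fin.val_zero] at this
      omega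
    refine ⟨?_, ?_⟩
    · rw [mat_mul, Matrix.mul_apply, Finset.sum_eq_single 0]
      · rw [hg0, hh0, mul_one]
      · intro c _ hc
        rw [hh c 0 hc h0l, if_neg hc, mul_zero]
      · intro h'; exact absurd (Finset.mem_univ _) h'
    · intro a b ha hb
      rw [mat_mul, Matrix.mul_apply, Finset.sum_eq_single a]
      · rw [hh a b ha hb]
        by_cases hab : a = b
        · rw [if_pos hab, mul_one, hg a a ha (by rw [hab]; exact hb), if_pos rfl]
        · rw [if_neg hab, mul_zero]
      · intro c _ hca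
        by_cases hcl : c = Fin.last (k + 1)
        · have hc0 : c ≠ 0 := by rw [hcl]; exact h0l.symm
          rw [hh c b hc0 hb, if_neg (by rw [hcl]; exact fun h' => hb h'.symm), mul_zero]
        · rw [hg a c ha hcl, if_neg (fun h' => hca h'.symm), zero_mul]
      · intro h'; exact absurd (Finset.mem_univ _) h'
  inv_mem' := by
    rintro g ⟨hg0, hg⟩
    have h0l : (0 : Fin (k + 2)) ≠ Fin.last (k + 1) := by
      intro h'
      have := congrArg Fin.val h'
      rw [Fin.val_last, Fin.val_zero] at this
      omega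
    refine ⟨?_, ?_⟩
    · have h1 := congrFun (congrFun (inv_mul_mat g) 0) 0
      rw [Matrix.mul_apply, Matrix.one_apply_eq, Finset.sum_eq_single 0] at h1
      · rw [hg0, mul_one] at h1
        exact h1
      · intro c _ hc
        rw [hg c 0 hc h0l, if_neg hc, mul_zero]
      · intro h'; exact absurd (Finset.mem_univ _) h'
    · intro a b ha hb
      rw [inv_apply, RingHom.id_apply, hg]
      · by_cases hab : a = b
        · rw [if_pos hab, if_pos (by rw [hab])]
        · rw [if_neg hab, if_neg (fun h' => hab (Fin.rev_injective h').symm)]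
      · intro h'
        apply hb
        rw [← rev_zero_eq_last, ← h', Fin.rev_rev]
      · intro h'
        apply ha
        rw [← rev_last_eq_zero, ← h', Fin.rev_rev]

/-- the Levi subgroup: the elements fixing the vectors `e_0` and `e_last` -/
def LS (k : ℕ) (F : Type*) [Field F] : Subgroup (SOJ (k + 2) F) where
  carrier := {g | mat g *ᵥ Pi.single 0 1 = Pi.single 0 1 ∧
    mat g *ᵥ Pi.single (Fin.last (k + 1)) 1 = Pi.single (Fin.last (k + 1)) 1}
  one_mem' := ⟨by rw [mat_one, Matrix.one_mulVec], by rw [mat_one, Matrix.one_mulVec]⟩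
  mul_mem' := by
    rintro g h ⟨hg1, hg2⟩ ⟨hh1, hh2⟩
    exact ⟨by rw [mat_mul, ← Matrix.mulVec_mulVec, hh1, hg1],
      by rw [mat_mul, ← Matrix.mulVec_mulVec, hh2, hg2]⟩
  inv_mem' := by
    rintro g ⟨hg1, hg2⟩
    refine ⟨?_, ?_⟩
    · have h := congrArg (fun v => mat g⁻¹ *ᵥ v) hg1
      simp only [Matrix.mulVec_mulVec, inv_mul_mat, Matrix.one_mulVec] at h
      exact h.symm
    · have h := congrArg (fun v => mat g⁻¹ *ᵥ v) hg2
      simp only [Matrix.mulVec_mulVec, inv_mul_mat, Matrix.one_mulVec] at h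
      exact h.symm

/-! ### subgroups of `Ω_{k+2}` -/

/-- the unipotent radical `Q ≅ F^k` of `P₁ ∩ Ω` -/
def Q0 (k : ℕ) (F : Type*) [Field F] : Subgroup (Om (k + 2) F) :=
  (QS k F).subgroupOf (commutator (SOJ (k + 2) F))

/-- the Levi subgroup of `P₁ ∩ Ω` -/
def L0 (k : ℕ) (F : Type*) [Field F] : Subgroup (Om (k + 2) F) :=
  (LS k F).subgroupOf (commutator (SOJ (k + 2) F))

/-- the derived Levi subgroup `≅ Ω_k` -/
def LD0 (k : ℕ) (F : Type*) [Field F] : Subgroup (Om (k + 2) F) :=
  (⁅LS k F, LS k F⁆).subgroupOf (commutator (SOJ (k + 2) F))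

/-- the torus of `Ω_{k+2}` -/
def T0 (k : ℕ) (F : Type*) [Field F] : Subgroup (Om (k + 2) F) :=
  (Tsub (k + 2) (RingHom.id F)).subgroupOf (commutator (SOJ (k + 2) F))

/-- the upper unitriangular subgroup of `Ω_{k+2}` -/
def U0 (k : ℕ) (F : Type*) [Field F] : Subgroup (Om (k + 2) F) :=
  (Usub (k + 2) (RingHom.id F)).subgroupOf (commutator (SOJ (k + 2) F))

/-- the upper unitriangular subgroup of the Levi subgroup -/
def UL0 (k : ℕ) (F : Type*) [Field F] : Subgroup (Om (k + 2) F) :=
  (LS k F ⊓ Usub (k + 2) (RingHom.id F)).subgroupOf (commutator (SOJ (k + 2) F))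

end Cfsg.Agent.Helper14.OmP
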